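import Groth.Agent.OpenDim.Indep
import Groth.Agent.FlatLocus.ImageClosure
import Groth.Agent.SubtrVal.ValRing
import Groth.Agent.S9777
import Groth.Agent.S2505

/-!
The dimension of closures of families of rational points does not drop under generization.
-/

set_option autoImplicit false
set_option backward.isDefEq.respectTransparency false
set_option backward.isDefEq.respectTransparency.types false
set_option linter.style.haveILetI false

universe u

open CategoryTheory CategoryTheory.Limits AlgebraicGeometry Topology TopologicalSpace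

noncomputable section

namespace Groth.Agent.SecClosureLib

/-- Fibres of a closed subscheme. -/
theorem dim_fibre_of_closedImmersion {Y S Z : Scheme.{u}} (f : Y ⟶ S) (j : Z ⟶ Y) [IsClosedImmersion j] (s : S) :
    topologicalKrullDim ↥((j ≫ f).fiber s) = topologicalKrullDim ↥(f.base ⁻¹' {s} ∩ Set.range j.base) := by
  rw [((j ≫ f).fiberHomeo s).isHomeomorph.topologicalKrullDim_eq]
  have he : IsEmbedding (fun z : ↥((j ≫ f).base ⁻¹' {s}) => j z.1) := j.isEmbedding.comp IsEmbedding.subtypeVal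
  have hr : Set.range (fun z : ↥((j ≫ f).base ⁻¹' {s}) => j z.1) = f.base ⁻¹' {s} ∩ Set.range j.base :=
    Set.ext fun y => ⟨by rintro ⟨z, rfl⟩; exact ⟨z.2, z.1, rfl⟩, by rintro ⟨hy, z, rfl⟩; exact ⟨⟨z, hy⟩, rfl⟩⟩
  rw [← hr]
  exact he.toHomeomorph.isHomeomorph.topologicalKrullDim_eq

/-- Dimensions of fibres of closed subsets do not change under base change. -/
theorem dim_inter_baseChange {Y S Y' S' : Scheme.{u}} {f : Y ⟶ S} {g : S' ⟶ S} {f' : Y' ⟶ S'} {e : Y' ⟶ Y}
    (sq : IsPullback e f' f g) [LocallyOfFiniteType f] [QuasiCompact f] (C : Closeds Y) (t : S') :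
    topologicalKrullDim ↥(f'.base ⁻¹' {t} ∩ e.base ⁻¹' (C : Set Y)) =
      topologicalKrullDim ↥(f.base ⁻¹' {g t} ∩ (C : Set Y)) := by
  let I := Scheme.IdealSheafData.vanishingIdeal C
  let j := I.subschemeι
  let j' : pullback j e ⟶ Y' := pullback.snd j e
  have hr : Set.range j.base = (C : Set Y) := by
    rw [show Set.range j.base = _ from I.range_subschemeι]
    simp [I, Scheme.IdealSheafData.coe_support_vanishingIdeal]
  have hr' : Set.range j'.base = e.base ⁻¹' (C : Set Y) := by
    rw [← hr]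
    exact Scheme.Pullback.range_snd j e
  rw [← hr, ← dim_fibre_of_closedImmersion f j, hr, ← hr', ← dim_fibre_of_closedImmersion f' j']
  exact S9777.result (j ≫ f) g (j' ≫ f') (pullback.fst j e) ((IsPullback.of_hasPullback j e).paste_vert sq) t

variable {V : Type u} [CommRing V] [IsDomain V] [ValuationRing V]

/-- Over a valuation ring, closures of generic points do not increase dimension. -/
theorem dim_closure_le {Y : Scheme.{u}} (f : Y ⟶ Spec (CommRingCat.of V)) [LocallyOfFiniteType f]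
    (A : Set Y) (hA : ∀ a ∈ A, f a = (⊥ : PrimeSpectrum V)) :
    topologicalKrullDim ↥(f.base ⁻¹' {IsLocalRing.closedPoint V} ∩ closure A) ≤
      topologicalKrullDim ↥(f.base ⁻¹' {(⊥ : PrimeSpectrum V)} ∩ closure A) := by
  refine OpenDim.dim_inter_le f (closure A) isClosed_closure Set.univ isOpen_univ (IsLocalRing.closedPoint V) _
    (by rw [Set.inter_univ, Set.inter_comm]) fun w hw => ?_
  let η : ↥(Spec (CommRingCat.of V)) := (⊥ : PrimeSpectrum V)
  have hsub : A ⊆ f.fiberι η '' ((f.fiberι η) ⁻¹' closure A) := fun a ha => by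
    obtain ⟨z, hz⟩ := (f.range_fiberι η).ge (show a ∈ f.base ⁻¹' {η} from hA a ha)
    exact ⟨z, show f.fiberι η z ∈ closure A from hz ▸ subset_closure ha, hz⟩
  haveI : QuasiCompact (f.fiberι η) := MorphismProperty.pullback_fst _ _ inferInstance
  obtain ⟨z, hz, hzw⟩ := FlatLocus.exists_specializes_of_mem_closure_image (f.fiberι η)
    (isClosed_closure.preimage (f.fiberι η).continuous) (closure_mono hsub hw.2)
  have hfz : f (f.fiberι η z) = η := (f.range_fiberι η).le ⟨z, rfl⟩
  refine le_trans ?_ (OpenDim.trd_le_dim_inter f (closure A) isClosed_closure Set.univ isOpen_univ η _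
    (by rw [Set.inter_univ, Set.inter_comm]) (z := f.fiberι η z) ⟨hfz, hz⟩)
  exact_mod_cast OpenDim.trd_le_of_valuationRing f hw.1 hzw hfz

/-- Base changes of rational points are dense in the preimage of their closure. -/
theorem preimage_closure_subset {Y S Y' S' : Scheme.{u}} {f : Y ⟶ S} {g : S' ⟶ S} {f' : Y' ⟶ S'} {e : Y' ⟶ Y}
    (sq : IsPullback e f' f g) {ι : Type u} (a : ι → (S ⟶ Y)) (ha : ∀ i, a i ≫ f = 𝟙 S)
    (a' : ι → (S' ⟶ Y')) (ha' : ∀ i, a' i ≫ f' = 𝟙 S') (hae : ∀ i, a' i ≫ e = g ≫ a i) (t : S') :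
    f'.base ⁻¹' {t} ∩ e.base ⁻¹' closure (Set.range fun i => (a i).base (g t)) ⊆
      closure (Set.range fun i => (a' i).base t) := by
  rintro v ⟨hv, hcl⟩
  by_contra hvW
  let U : Y'.Opens := ⟨(closure (Set.range fun i => (a' i).base t))ᶜ, isClosed_closure.isOpen_compl⟩
  have h := isPullback_fiberToSpecResidueField_of_isPullback sq t
  let π : f'.fiber t ⟶ f.fiber (g t) :=
    pullback.map f' (S'.fromSpecResidueField t) f (S.fromSpecResidueField (g t)) e (Spec.map (g.residueFieldMap t)) g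
      sq.w.symm (Scheme.Hom.SpecMap_residueFieldMap_fromSpecResidueField g t).symm
  haveI : UniversallyOpen π := MorphismProperty.of_isPullback h.flip
    (S2505.result (Spec.map (g.residueFieldMap t)))
  have hπ : π ≫ f.fiberι (g t) = f'.fiberι t ≫ e := pullback.lift_fst _ _ _
  have hπ' : ∀ z, f.fiberι (g t) (π z) = e (f'.fiberι t z) := fun z => by
    rw [← Scheme.Hom.comp_apply, hπ, Scheme.Hom.comp_apply]
  obtain ⟨v₀, hv₀⟩ := (f'.range_fiberι t).ge hv
  have hopen : IsOpen (π '' (f'.fiberι t ⁻¹' (U : Set Y'))) :=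
    π.isOpenMap _ (U.2.preimage (f'.fiberι t).continuous)
  obtain ⟨O, hO, hOeq⟩ := (f.fiberι (g t)).isEmbedding.isInducing.isOpen_iff.1 hopen
  have hvO : e v ∈ O := by
    have : π v₀ ∈ π '' (f'.fiberι t ⁻¹' (U : Set Y')) := ⟨v₀, show f'.fiberι t v₀ ∈ U by rw [hv₀]; exact hvW, rfl⟩
    rw [← hOeq, Set.mem_preimage, hπ', hv₀] at this
    exact this
  obtain ⟨_, hO', i, rfl⟩ := mem_closure_iff.1 hcl O hO hvO
  have hai : ∀ (s : S), f (a i s) = s := fun s => by rw [← Scheme.Hom.comp_apply, ha i]; rfl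
  obtain ⟨z₁, hz₁⟩ := (f.range_fiberι (g t)).ge (show a i (g t) ∈ f.base ⁻¹' {g t} from hai (g t))
  have hmem : z₁ ∈ f.fiberι (g t) ⁻¹' O := show f.fiberι (g t) z₁ ∈ O from hz₁ ▸ hO'
  rw [hOeq] at hmem
  obtain ⟨z, hzU, hz⟩ := hmem
  have hez : e (f'.fiberι t z) = a i (g t) := by rw [← hπ', hz]; exact hz₁
  have hsq : IsPullback g (a' i) (a i) e := by
    refine (IsPullback.of_bot ?_ (hae i).symm sq)
    rw [ha i, ha' i]
    exact IsPullback.of_vert_isIso ⟨by simp⟩
  obtain ⟨t', -, ht'⟩ := Scheme.exists_preimage_of_isPullback hsq (g t) (f'.fiberι t z) hez.symm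
  have : t' = t := by
    have h1 : f' (a' i t') = t' := by rw [← Scheme.Hom.comp_apply, ha' i]; rfl
    rw [← h1, ht']
    exact (f'.range_fiberι t).le ⟨z, rfl⟩
  subst this
  exact hzU (ht' ▸ subset_closure ⟨i, rfl⟩)

end Groth.Agent.SecClosureLib
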